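import Groth.Agent.ProjTwist.Top

/-!
# The pairing into the top cohomology of the canonical twist on projective space
-/

set_option autoImplicit false
set_option linter.style.haveILetI false

universe u

open CategoryTheory Opposite TopologicalSpace AlgebraicGeometry
open HomogeneousLocalization
open Groth.Agent.CohBase Groth.Agent.CohBase.PS Groth.Agent.ProjTwist

noncomputable section

namespace Groth.Agent.ProjPairLib

variable (n : ℕ) (R : Type u) [CommRing R]

local notation "Poly" => MvPolynomial (Fin (n + 1)) R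
local notation "𝒜" => CohB1.polyGrading n R

/-- Classes with a Laurent expansion, as for the top cohomology of a twist: classes vanish exactly
when the totally negative part of the expansion does. -/
structure Expansion (k : ℕ) (Z H : Type*) [AddCommGroup Z] [AddCommGroup H] [Module R H] where
  cl : Z →+ H
  lam : Z →+ Laurent n R
  surj : Function.Surjective cl
  ker : ∀ z, cl z = 0 ↔ negP n R (lam z) = 0
  deg : ∀ z, ∀ e ∈ (lam z).coeff.support, (∑ a, e a) = -((n : ℤ) + 1 + k)
  smul : ∀ (r : R) z, ∃ z', cl z' = r • cl z ∧ lam z' = AddMonoidAlgebra.single 0 r * lam z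
  cocycle : ∀ p : ↥(𝒜 k), ∃ z, lam z = topX n R p.1

variable {n R}
variable {Z H : Type*} [AddCommGroup Z] [AddCommGroup H] [Module R H]

lemma single_zero_mul_coeff (r : R) (x : Laurent n R) (e : Fin (n + 1) →₀ ℤ) :
    (AddMonoidAlgebra.single 0 r * x).coeff e = r * x.coeff e := by
  simp [AddMonoidAlgebra.coeff_single_mul_apply]

lemma eq_negOnes {e : Fin (n + 1) →₀ ℤ} (hs : (∑ a, e a) = -((n : ℤ) + 1)) (he : ∀ a, e a < 0) :
    e = negOnes n := by
  ext a
  rw [negOnes_apply]
  have h1 : (∑ i, (-1 - e i)) = 0 := by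
    rw [Finset.sum_sub_distrib, hs]
    simp
  have := (Finset.sum_eq_zero_iff_of_nonneg fun i _ => by have := he i; omega).1 h1 a (Finset.mem_univ a)
  omega

lemma negP_coeff_negOnes (x : Laurent n R) : (negP n R x).coeff (negOnes n) = x.coeff (negOnes n) := by
  simp [negP, Finsupp.filter_apply, negOnes_apply]

lemma Expansion.cl_eq {k : ℕ} (C : Expansion n R k Z H) {z w : Z}
    (h : negP n R (C.lam z) = negP n R (C.lam w)) : C.cl z = C.cl w := by
  refine sub_eq_zero.1 ((map_sub C.cl z w).symm.trans ((C.ker (z - w)).2 ?_))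
  rw [map_sub, map_sub, h, sub_self]

/-- Forms give classes, and all classes arise in this way. -/
theorem Expansion.exists_form {k : ℕ} (C : Expansion n R k Z H) :
    ∃ g : ↥(𝒜 k) →ₗ[R] H,
      Function.Surjective g ∧ ∀ q, ∃ z, C.lam z = topX n R q.1 ∧ C.cl z = g q := by
  classical
  choose z hz using C.cocycle
  refine ⟨{ toFun := fun q => C.cl (z q), map_add' := fun p q => ?_, map_smul' := fun r p => ?_ },
    fun x => ?_, fun q => ⟨z q, hz q, rfl⟩⟩
  · rw [← map_add]
    refine C.cl_eq (congrArg (negP n R) ?_)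
    rw [map_add, hz, hz, hz, ← map_add]
    rfl
  · obtain ⟨w, hw, hw'⟩ := C.smul r (z p)
    rw [RingHom.id_apply, ← hw]
    refine C.cl_eq (congrArg (negP n R) ?_)
    rw [hw', hz, hz]
    exact topX_smul n R r p.1
  · obtain ⟨c, rfl⟩ := C.surj x
    obtain ⟨p, hp⟩ := exists_topX n R (k := k) (negP n R (C.lam c)) fun a ha => by
      simp only [negP, AddMonoidHom.coe_mk, ZeroHom.coe_mk, AddMonoidAlgebra.coeff_ofCoeff,
        Finsupp.support_filter, Finset.mem_filter] at ha
      exact ⟨C.deg c a ha.1, ha.2⟩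
    refine ⟨p, C.cl_eq ?_⟩
    rw [hz, negP_of_all_neg n R fun a ha => (support_topX n R p ha).2, hp]

lemma Expansion.coef_eq {k : ℕ} (C : Expansion n R k Z H) {z w : Z} (h : C.cl z = C.cl w) :
    (C.lam z).coeff (negOnes n) = (C.lam w).coeff (negOnes n) := by
  have h0 : C.cl (z - w) = 0 := by rw [map_sub, h, sub_self]
  have h2 := congrArg (fun x : Laurent n R => x.coeff (negOnes n)) ((C.ker _).1 h0)
  simp only [negP_coeff_negOnes, map_sub, AddMonoidAlgebra.coeff_sub, AddMonoidAlgebra.coeff_zero,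
    Finsupp.sub_apply, Finsupp.zero_apply] at h2
  exact sub_eq_zero.1 h2

/-- The trace on the top cohomology of the canonical twist. -/
theorem Expansion.exists_trace (C : Expansion n R 0 Z H) :
    ∃ t : H ≃ₗ[R] R, ∀ z, t (C.cl z) = (C.lam z).coeff (negOnes n) := by
  classical
  choose s hs using C.surj
  have key : ∀ z, (C.lam (s (C.cl z))).coeff (negOnes n) = (C.lam z).coeff (negOnes n) :=
    fun z => C.coef_eq (hs (C.cl z))
  let f : H →ₗ[R] R :=
    { toFun := fun x => (C.lam (s x)).coeff (negOnes n)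
      map_add' := fun x y => by
        rw [← Finsupp.add_apply, ← AddMonoidAlgebra.coeff_add, ← map_add]
        exact C.coef_eq (by rw [map_add, hs, hs, hs])
      map_smul' := fun r x => by
        obtain ⟨w, hw, hw'⟩ := C.smul r (s x)
        rw [RingHom.id_apply, smul_eq_mul, ← single_zero_mul_coeff, ← hw']
        exact C.coef_eq (by rw [hw, hs, hs]) }
  have hf : ∀ z, f (C.cl z) = (C.lam z).coeff (negOnes n) := key
  have hinj : Function.Injective f := by
    refine (injective_iff_map_eq_zero f).2 fun x hx => ?_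
    obtain ⟨z, rfl⟩ := C.surj x
    rw [hf] at hx
    refine (C.ker z).2 ((negP_eq_zero_iff n R _).2 fun e he => ?_)
    by_contra hneg
    push Not at hneg
    obtain rfl := eq_negOnes (by simpa using C.deg z e he) hneg
    exact Finsupp.mem_support_iff.1 he hx
  have hsurj : Function.Surjective f := fun c => by
    obtain ⟨z, hz⟩ := C.cocycle
      ⟨MvPolynomial.monomial 0 c, MvPolynomial.isHomogeneous_monomial _ (by simp)⟩
    refine ⟨C.cl z, ?_⟩
    rw [hf, hz, topX_monomial, map_zero, sub_zero]
    simp [AddMonoidAlgebra.coeff_single]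
  exact ⟨LinearEquiv.ofBijective f ⟨hinj, hsurj⟩, hf⟩

/-- The value of the pairing at a monomial. -/
theorem pairing_monomial (p : Poly) (δ : Fin (n + 1) →₀ ℕ) (c : R) :
    (topX n R (MvPolynomial.monomial δ c) * toLaurent n R p).coeff (negOnes n) = p.coeff δ * c := by
  rw [topX_monomial, AddMonoidAlgebra.coeff_single_mul_apply, neg_sub, sub_add_cancel, mul_comm]
  congr 1
  exact Finsupp.mapDomain_apply (expInt_injective n) _ δ

/-- The forms of degree `k` and the functionals on them. -/
theorem exists_dual_form {k : ℕ} (ψ : ↥(𝒜 k) →ₗ[R] R) :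
    ∃! p : ↥(𝒜 k), ∀ q : ↥(𝒜 k), ψ q = (topX n R q.1 * toLaurent n R p.1).coeff (negOnes n) := by
  classical
  let mk : (Fin (n + 1) →₀ ℕ) → R → ↥(𝒜 k) := fun δ c =>
    if h : δ.degree = k then ⟨MvPolynomial.monomial δ c, MvPolynomial.isHomogeneous_monomial c h⟩ else 0
  have hmk : ∀ δ c, δ.degree = k → (mk δ c).1 = MvPolynomial.monomial δ c := fun δ c h => by simp [mk, h]
  have hdeg : ∀ (q : ↥(𝒜 k)) δ, δ ∈ q.1.support → δ.degree = k := fun q δ hδ => by
    rw [Finsupp.degree_eq_weight_one]
    exact q.2 (MvPolynomial.mem_support_iff.1 hδ)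
  have hsum : ∀ q : ↥(𝒜 k), q = ∑ δ ∈ q.1.support, mk δ (q.1.coeff δ) := fun q => Subtype.ext <| by
    rw [AddSubmonoidClass.coe_finsetSum, Finset.sum_congr rfl fun δ hδ => hmk δ _ (hdeg q δ hδ)]
    exact (MvPolynomial.support_sum_monomial_coeff q.1).symm
  let T := Finset.univ.finsuppAntidiag (ι := Fin (n + 1)) k
  have hT : ∀ δ : Fin (n + 1) →₀ ℕ, δ ∈ T ↔ δ.degree = k := fun δ => by
    simp [T, Finset.mem_finsuppAntidiag, Finsupp.degree_eq_sum]
  refine ⟨∑ δ ∈ T, mk δ (ψ (mk δ 1)), fun q => ?_, fun p' hp' => ?_⟩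
  · conv_lhs => rw [hsum q]
    conv_rhs => rw [hsum q]
    rw [map_sum, AddSubmonoidClass.coe_finsetSum, map_sum, Finset.sum_mul, AddMonoidAlgebra.coeff_sum,
      Finsupp.finsetSum_apply]
    refine Finset.sum_congr rfl fun δ hδ => ?_
    have hd := hdeg q δ hδ
    rw [hmk δ _ hd, pairing_monomial, AddSubmonoidClass.coe_finsetSum, MvPolynomial.coeff_sum,
      Finset.sum_eq_single δ]
    · rw [hmk δ _ hd, MvPolynomial.coeff_monomial, if_pos rfl, mul_comm]
      rw [show mk δ (q.1.coeff δ) = q.1.coeff δ • mk δ 1 from Subtype.ext (by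
        rw [Submodule.coe_smul, hmk δ _ hd, hmk δ _ hd, MvPolynomial.smul_monomial, smul_eq_mul, mul_one]),
        map_smul, smul_eq_mul]
    · intro ε hε hne
      rw [hmk ε _ ((hT ε).1 hε), MvPolynomial.coeff_monomial, if_neg hne]
    · exact fun h => absurd ((hT δ).2 hd) h
  · refine Subtype.ext (MvPolynomial.ext _ _ fun δ => ?_)
    rw [AddSubmonoidClass.coe_finsetSum, MvPolynomial.coeff_sum]
    by_cases hd : δ.degree = k
    · rw [Finset.sum_eq_single δ]
      · rw [hmk δ _ hd, MvPolynomial.coeff_monomial, if_pos rfl, hp' (mk δ 1), hmk δ _ hd,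
          pairing_monomial, mul_one]
      · intro ε hε hne
        rw [hmk ε _ ((hT ε).1 hε), MvPolynomial.coeff_monomial, if_neg hne]
      · exact fun h => absurd ((hT δ).2 hd) h
    · rw [Finset.sum_eq_zero fun ε hε => ?_]
      · by_contra h
        exact hd (hdeg p' δ (MvPolynomial.mem_support_iff.2 h))
      · rw [hmk ε _ ((hT ε).1 hε), MvPolynomial.coeff_monomial, if_neg]
        rintro rfl
        exact hd ((hT _).1 hε)

end Groth.Agent.ProjPairLib
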