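import Groth.Agent.CohBase.Natural

/-!
# Leray's comparison for two sheaves, natural in the morphisms between them
-/

universe u

open CategoryTheory CategoryTheory.Limits Opposite TopologicalSpace
open Groth.Agent.CohBase

namespace Groth.Agent.ProjPairLib

variable {X : Type u} [TopologicalSpace X] {ι : Type u} (U : ι → Opens X)

lemma hmap_hmap {F G K : AbSh X} (V : Opens X) (f : F ⟶ G) (g : G ⟶ K) (n : ℕ) (x : HU V F n) :
    hmap V g n (hmap V f n x) = hmap V (f ≫ g) n x := by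
  simp only [hmap_apply, Abelian.Ext.comp_assoc_of_third_deg_zero, Abelian.Ext.mk₀_comp_mk₀]

lemma hmap_id {F : AbSh X} (V : Opens X) (n : ℕ) (x : HU V F n) : hmap V (𝟙 F) n x = x := by
  simp only [hmap_apply, Abelian.Ext.comp_mk₀_id]

lemma hmap_add' {F G : AbSh X} (V : Opens X) (f g : F ⟶ G) (n : ℕ) (x : HU V F n) :
    hmap V (f + g) n x = hmap V f n x + hmap V g n x := by
  simp only [hmap_apply, Abelian.Ext.mk₀_add, Abelian.Ext.comp_add]

lemma acyclic_biprod {F G : AbSh X} (hF : Acyclic U F) (hG : Acyclic U G) : Acyclic U (F ⊞ G) := by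
  intro n i m
  haveI := hF n i m
  haveI := hG n i m
  have h : ∀ x : HU (inter U i) (F ⊞ G) (m + 1), x = 0 := fun x => by
    rw [← hmap_id (inter U i) (m + 1) x, ← biprod.total, hmap_add', ← hmap_hmap, ← hmap_hmap,
      Subsingleton.elim (hmap (inter U i) biprod.fst (m + 1) x) 0,
      Subsingleton.elim (hmap (inter U i) biprod.snd (m + 1) x) 0, map_zero, map_zero, add_zero]
  exact ⟨fun x y => (h x).trans (h y).symm⟩

/-- Cocycles pushed forward along a morphism. -/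
noncomputable def zcMap {F G : AbSh X} (f : F ⟶ G) (p : ℕ) : Zc U F.obj p →+ Zc U G.obj p :=
  ((ccMap U f.hom p).comp (Zc U F.obj p).subtype).codRestrict _ (ccMap_mem_Zc U f.hom)

lemma coe_zcMap {F G : AbSh X} (f : F ⟶ G) (p : ℕ) (z : Zc U F.obj p) :
    (zcMap U f p z).1 = ccMap U f.hom p z.1 := rfl

lemma zcMap_zcMap {F G K : AbSh X} (f : F ⟶ G) (g : G ⟶ K) (p : ℕ) (z : Zc U F.obj p) :
    zcMap U g p (zcMap U f p z) = zcMap U (f ≫ g) p z := rfl

lemma zcMap_id {F : AbSh X} (p : ℕ) (z : Zc U F.obj p) : zcMap U (𝟙 F) p z = z :=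
  Subtype.ext (funext fun _ => rfl)

lemma ccMap_mem_Bc {F G : AbSh X} (f : F ⟶ G) {p : ℕ} {c : CC U F.obj p} (hc : c ∈ Bc U F.obj p) :
    ccMap U f.hom p c ∈ Bc U G.obj p := by
  cases p with
  | zero =>
    have hc' : c = 0 := hc
    rw [hc', map_zero]
    exact zero_mem _
  | succ p =>
    obtain ⟨b, rfl⟩ := hc
    exact ⟨ccMap U f.hom p b, cdiff_ccMap U f.hom p b⟩

/-- Comparison maps for two sheaves which commute with the morphisms between them. -/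
theorem exists_comparison₂ (hcov : ⊤ ≤ iSup U) {F G : AbSh X} (hF : Acyclic U F) (hG : Acyclic U G)
    (p : ℕ) :
    ∃ (ΦF : Zc U F.obj p →+ HU (⊤ : Opens X) F p) (ΦG : Zc U G.obj p →+ HU (⊤ : Opens X) G p),
      Function.Surjective ΦF ∧ Function.Surjective ΦG ∧
      (∀ z, ΦF z = 0 ↔ z.1 ∈ Bc U F.obj p) ∧ (∀ z, ΦG z = 0 ↔ z.1 ∈ Bc U G.obj p) ∧
      (∀ (f : F ⟶ F) z, ΦF (zcMap U f p z) = hmap ⊤ f p (ΦF z)) ∧
      (∀ (f : G ⟶ G) z, ΦG (zcMap U f p z) = hmap ⊤ f p (ΦG z)) ∧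
      ∀ (f : F ⟶ G) z, ΦG (zcMap U f p z) = hmap ⊤ f p (ΦF z) := by
  obtain ⟨Φ, hΦs, hΦk, hΦn⟩ := hasComparisonNat U hcov (acyclic_biprod U hF hG) p
  have hn : ∀ (f : F ⊞ G ⟶ F ⊞ G) z, Φ (zcMap U f p z) = hmap ⊤ f p (Φ z) := fun f z => hΦn f z _ rfl
  let part : ∀ {K : AbSh X}, (K ⟶ F ⊞ G) → (F ⊞ G ⟶ K) → (Zc U K.obj p →+ HU (⊤ : Opens X) K p) :=
    fun i π => (hmap ⊤ π p).comp (Φ.comp (zcMap U i p))
  have key : ∀ {K L : AbSh X} (i : K ⟶ F ⊞ G) (π : F ⊞ G ⟶ K) (j : L ⟶ F ⊞ G) (ρ : F ⊞ G ⟶ L),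
      i ≫ π = 𝟙 K → j ≫ ρ = 𝟙 L → ∀ (f : K ⟶ L) z,
        part j ρ (zcMap U f p z) = hmap ⊤ f p (part i π z) := by
    intro K L i π j ρ hi hj f z
    show hmap ⊤ ρ p (Φ (zcMap U j p (zcMap U f p z))) = hmap ⊤ f p (hmap ⊤ π p (Φ (zcMap U i p z)))
    have e : zcMap U j p (zcMap U f p z) = zcMap U (π ≫ f ≫ j) p (zcMap U i p z) := by
      rw [zcMap_zcMap, zcMap_zcMap]
      congr 1
      rw [← Category.assoc i π, hi, Category.id_comp]
    rw [e, hn, hmap_hmap, hmap_hmap]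
    simp only [Category.assoc, hj, Category.comp_id]
  have surj : ∀ {K : AbSh X} (i : K ⟶ F ⊞ G) (π : F ⊞ G ⟶ K), i ≫ π = 𝟙 K →
      Function.Surjective (part i π) := by
    intro K i π hi y
    obtain ⟨w, hw⟩ := hΦs (hmap ⊤ i p y)
    refine ⟨zcMap U π p w, ?_⟩
    show hmap ⊤ π p (Φ (zcMap U i p (zcMap U π p w))) = y
    rw [zcMap_zcMap, hn, hw, hmap_hmap, hmap_hmap]
    simp only [Category.assoc, hi, Category.comp_id, hmap_id]
  have ker : ∀ {K : AbSh X} (i : K ⟶ F ⊞ G) (π : F ⊞ G ⟶ K), i ≫ π = 𝟙 K →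
      ∀ z, part i π z = 0 ↔ z.1 ∈ Bc U K.obj p := by
    intro K i π hi z
    constructor
    · intro hz
      have h0 : Φ (zcMap U i p z) = 0 := by
        have e : zcMap U i p z = zcMap U (π ≫ i) p (zcMap U i p z) := by
          rw [zcMap_zcMap, ← Category.assoc, hi, Category.id_comp]
        rw [e, hn, ← hmap_hmap]
        show hmap ⊤ i p (part i π z) = 0
        rw [hz, map_zero]
      have h1 := ccMap_mem_Bc U π ((hΦk _).1 h0)
      rw [← coe_zcMap, zcMap_zcMap, hi, zcMap_id] at h1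
      exact h1
    · intro hz
      show hmap ⊤ π p (Φ (zcMap U i p z)) = 0
      rw [(hΦk (zcMap U i p z)).2 (ccMap_mem_Bc U i hz), map_zero]
  have hl : (biprod.inl : F ⟶ F ⊞ G) ≫ biprod.fst = 𝟙 F := biprod.inl_fst
  have hr : (biprod.inr : G ⟶ F ⊞ G) ≫ biprod.snd = 𝟙 G := biprod.inr_snd
  exact ⟨part biprod.inl biprod.fst, part biprod.inr biprod.snd, surj _ _ hl, surj _ _ hr,
    ker _ _ hl, ker _ _ hr, key _ _ _ _ hl hl, key _ _ _ _ hr hr, key _ _ _ _ hl hr⟩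

lemma symm_hmap {F G : AbSh X} (f : F ⟶ G) (m : ℕ) (x : HU (⊤ : Opens X) F m) :
    (HEquiv G m).symm (hmap ⊤ f m x) = Sheaf.H.map f m ((HEquiv F m).symm x) := by
  apply (HEquiv G m).injective
  rw [HEquiv_map, AddEquiv.apply_symm_apply, AddEquiv.apply_symm_apply]

/-- Comparison maps into sheaf cohomology for two sheaves, natural in the morphisms. -/
theorem exists_comparisonH₂ (hcov : ⊤ ≤ iSup U) {F G : AbSh X} (hF : Acyclic U F) (hG : Acyclic U G)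
    (p : ℕ) :
    ∃ (cF : Zc U F.obj p →+ Sheaf.H.{u} F p) (cG : Zc U G.obj p →+ Sheaf.H.{u} G p),
      Function.Surjective cF ∧ Function.Surjective cG ∧
      (∀ z, cF z = 0 ↔ z.1 ∈ Bc U F.obj p) ∧ (∀ z, cG z = 0 ↔ z.1 ∈ Bc U G.obj p) ∧
      (∀ (f : F ⟶ F) z, cF (zcMap U f p z) = Sheaf.H.map f p (cF z)) ∧
      (∀ (f : G ⟶ G) z, cG (zcMap U f p z) = Sheaf.H.map f p (cG z)) ∧
      ∀ (f : F ⟶ G) z, cG (zcMap U f p z) = Sheaf.H.map f p (cF z) := by
  obtain ⟨ΦF, ΦG, hsF, hsG, hkF, hkG, hnF, hnG, hFG⟩ := exists_comparison₂ U hcov hF hG p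
  refine ⟨(HEquiv F p).symm.toAddMonoidHom.comp ΦF, (HEquiv G p).symm.toAddMonoidHom.comp ΦG,
    (HEquiv F p).symm.surjective.comp hsF, (HEquiv G p).symm.surjective.comp hsG,
    fun z => (map_eq_zero_iff (HEquiv F p).symm (HEquiv F p).symm.injective).trans (hkF z),
    fun z => (map_eq_zero_iff (HEquiv G p).symm (HEquiv G p).symm.injective).trans (hkG z),
    fun f z => (congrArg (HEquiv F p).symm (hnF f z)).trans (symm_hmap f p (ΦF z)),
    fun f z => (congrArg (HEquiv G p).symm (hnG f z)).trans (symm_hmap f p (ΦG z)),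
    fun f z => (congrArg (HEquiv G p).symm (hFG f z)).trans (symm_hmap f p (ΦF z))⟩

end Groth.Agent.ProjPairLib
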