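import Groth.Agent.ProjPairLib.Hom
import Groth.Agent.ProjPairLib.Nat2
import Groth.Agent.ProjPairLib.Main

/-!
# Laurent expansions of top cohomology classes of twisting sheaves
-/

set_option autoImplicit false
set_option linter.style.haveILetI false

universe u

open CategoryTheory Opposite TopologicalSpace AlgebraicGeometry
open HomogeneousLocalization
open Groth.Agent.CohBase Groth.Agent.CohBase.PS Groth.Agent.ProjTwist

noncomputable section

namespace Groth.Agent.ProjPairLib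

variable (n : ℕ) (R : Type u) [CommRing R]

local notation "Poly" => MvPolynomial (Fin (n + 1)) R
local notation "𝒜" => CohB1.polyGrading n R

/-- The abelian sheaf of `O(d)`. -/
abbrev tw (d : ℤ) : AbSh (Proj 𝒜) := Coh.toAb (Twist.twist 𝒜 d)

/-- Cocycles of `O(d)` in the top degree. -/
abbrev ZZ (d : ℤ) := Zc (U n R) (tw n R d).obj n

/-- The top cohomology of `O(d)`. -/
abbrev HT (d : ℤ) := Coh.HH (CohB1.ProjSpace n R) (Twist.twistProjSpace n R d) n

lemma acyclic_tw (d : ℤ) : Acyclic (U n R) (tw n R d) :=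
  acyclic_of_affine (Twist.twist 𝒜 d) (U n R) fun l i => by
    rw [inter_U]
    exact Proj.isAffineOpen_basicOpen 𝒜 _ (prodX_mem n R _) (img_nonempty n i).card_pos

/-- The value of a cocycle at the standard tuple. -/
def lamZ (d : ℤ) : ZZ n R d →+ Laurent n R :=
  ((Λ n R d (idT n)).comp (Pi.evalAddMonoidHom _ (idT n))).comp (ZZ n R d).subtype

lemma lamZ_apply (d : ℤ) (z : ZZ n R d) : lamZ n R d z = Λ n R d (idT n) (z.1 (idT n)) := rfl

lemma lamZ_smul (d : ℤ) (r : R) (z : ZZ n R d) :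
    lamZ n R d (zcMap (U n R) (Coh.smulAb (Twist.twist 𝒜 d) (ProjCoh.projφ 𝒜 r)) n z) =
      AddMonoidAlgebra.single 0 r * lamZ n R d z :=
  Λ_smulAb n R d (idT n) r (z.1 (idT n))

/-- The abelian sheaf map underlying a morphism of twists. -/
abbrev twMap {a b : ℤ} (φ : Twist.twist 𝒜 a ⟶ Twist.twist 𝒜 b) : tw n R a ⟶ tw n R b :=
  (SheafOfModules.toSheaf (Proj 𝒜).ringCatSheaf).map φ

lemma lamZ_map {a b : ℤ} (φ : Twist.twist 𝒜 a ⟶ Twist.twist 𝒜 b) (z : ZZ n R a) :
    lamZ n R b (zcMap (U n R) (twMap n R φ) n z) = lamZ n R a z * symb n R φ :=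
  L_app n R φ (univ_le_inter n R (idT n)) (z.1 (idT n))

lemma mem_Bc_iff {k : ℕ} {d : ℤ} (hd : d = -((n : ℤ) + 1 + k)) (z : ZZ n R d) :
    z.1 ∈ Bc (U n R) (tw n R d).obj n ↔ negP n R (lamZ n R d z) = 0 := by
  subst hd
  rw [lamZ_apply]
  exact ⟨negP_of_mem_Bc n R, fun h =>
    mem_Bc_of_negP n R (k := k) z.1 z.2 (negP_eq_zero_all n R _ z.1 z.2 h)⟩

/-- Every form gives a cocycle. -/
theorem exists_cocycle (k : ℕ) {d : ℤ} (hd : d = -((n : ℤ) + 1 + k)) (p : 𝒜 k) :
    ∃ z : ZZ n R d, lamZ n R d z = topX n R p.1 := by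
  classical
  have hgood : ∀ i, GoodD n R d (img n i) ((incid n i).det • topX n R p.1) := by
    intro i e he
    by_cases h : (incid n i).det = 0
    · rw [h, zero_smul] at he
      simp at he
    · have he' : e ∈ (topX n R p.1).coeff.support := by
        rw [Finsupp.mem_support_iff] at he ⊢
        intro h0
        exact he (by rw [AddMonoidAlgebra.coeff_smul, Finsupp.smul_apply, h0, smul_zero])
      rw [img_eq_univ_of_det_ne_zero n h]
      exact ⟨(support_topX n R p he').1.trans hd.symm, fun a ha => absurd (Finset.mem_univ a) ha⟩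
  choose z hz using fun i => exists_Λ n R d i _ (hgood i)
  have hzc : cdiff (U n R) _ n z = 0 := funext fun i => by
    refine Λ_injective n R d i ?_
    rw [cdiff_apply]
    simp only [map_sum, map_zsmul, Λ_res, hz, Pi.zero_apply, map_zero, smul_smul, ← Finset.sum_smul,
      sum_det_eq_zero, zero_smul]
  refine ⟨⟨z, hzc⟩, ?_⟩
  show Λ n R d _ (z (idT n)) = _
  rw [hz, det_idT, one_smul]

lemma HT_smul (d : ℤ) (r : R) (x : HT n R d) :
    r • x = Sheaf.H.map (Coh.smulAb (Twist.twist 𝒜 d) (ProjCoh.projφ 𝒜 r)) n x := rfl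

/-- The expansion attached to a comparison map. -/
def mkExpansion {k : ℕ} {d : ℤ} (hd : d = -((n : ℤ) + 1 + k)) (c : ZZ n R d →+ HT n R d)
    (hs : Function.Surjective c) (hk : ∀ z, c z = 0 ↔ z.1 ∈ Bc (U n R) (tw n R d).obj n)
    (hn : ∀ (r : R) z, c (zcMap (U n R) (Coh.smulAb (Twist.twist 𝒜 d) (ProjCoh.projφ 𝒜 r)) n z) = r • c z) :
    Expansion n R k (ZZ n R d) (HT n R d) where
  cl := c
  lam := lamZ n R d
  surj := hs
  ker z := (hk z).trans (mem_Bc_iff n R hd z)
  deg z e he := ((goodD_Λ n R d (idT n) (z.1 (idT n)) e he).1).trans hd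
  smul r z := ⟨_, hn r z, lamZ_smul n R d r z⟩
  cocycle p := exists_cocycle n R k hd p

/-- Compatible expansions for a twist and for the canonical twist. -/
theorem exists_expansions {k : ℕ} {a b : ℤ} (ha : a = -((n : ℤ) + 1 + k))
    (hb : b = -((n : ℤ) + 1 + (0 : ℕ))) :
    ∃ (Ea : Expansion n R k (ZZ n R a) (HT n R a)) (Eb : Expansion n R 0 (ZZ n R b) (HT n R b)),
      ∀ (φ : Twist.twistProjSpace n R a ⟶ Twist.twistProjSpace n R b) z, ∃ w,
        Eb.cl w = Sheaf.H.map ((SheafOfModules.toSheaf (CohB1.ProjSpace n R).ringCatSheaf).map φ) n (Ea.cl z) ∧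
          Eb.lam w = Ea.lam z * symb n R φ := by
  obtain ⟨ca, cb, hsa, hsb, hka, hkb, hna, hnb, hab⟩ :=
    exists_comparisonH₂ (U n R) (top_le_iSup_U n R) (acyclic_tw n R a) (acyclic_tw n R b) n
  exact ⟨mkExpansion n R ha ca hsa hka fun r z => (hna _ z).trans (HT_smul n R a r (ca z)).symm,
    mkExpansion n R hb cb hsb hkb fun r z => (hnb _ z).trans (HT_smul n R b r (cb z)).symm,
    fun φ z => ⟨_, hab (twMap n R φ) z, lamZ_map n R φ z⟩⟩

end Groth.Agent.ProjPairLib
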