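import Groth.Agent.ProjTwist.Zero

/-!
# Morphisms between twisting sheaves on projective space
-/

set_option autoImplicit false
set_option linter.style.haveILetI false

universe u

open CategoryTheory Opposite TopologicalSpace AlgebraicGeometry
open HomogeneousLocalization
open Groth.Agent.CohBase Groth.Agent.CohBase.PS Groth.Agent.ProjTwist

noncomputable section

namespace Groth.Agent.ProjPairLib

variable (n : ℕ) (R : Type u) [CommRing R]

local notation "Poly" => MvPolynomial (Fin (n + 1)) R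
local notation "𝒜" => CohB1.polyGrading n R

lemma app_res {M N : (Proj 𝒜).Modules} (φ : M ⟶ N) {V W : (Proj 𝒜).Opens} (hW : W ≤ V) (f : Γ(M, V)) :
    φ.app W (M.presheaf.map (homOfLE hW).op f) = N.presheaf.map (homOfLE hW).op (φ.app V f) :=
  NatTrans.naturality_apply (D := Ab) φ.mapPresheaf (homOfLE hW).op f

/-- The local generator of `O(d)` where the variable `k` is a unit. -/
def gen (d : ℤ) (k : Fin (n + 1)) {V : (Proj 𝒜).Opens}
    (hk : V ≤ Proj.basicOpen 𝒜 (MvPolynomial.X k)) : Γ(Twist.twist 𝒜 d, V) :=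
  Function.surjInv (untwist_bijective n R d k hk).2 1

lemma untwist_gen (d : ℤ) (k : Fin (n + 1)) {V : (Proj 𝒜).Opens}
    (hk : V ≤ Proj.basicOpen 𝒜 (MvPolynomial.X k)) : untwist n R d k hk (gen n R d k hk) = 1 :=
  Function.surjInv_eq (untwist_bijective n R d k hk).2 1

lemma eq_smul_gen (d : ℤ) (k : Fin (n + 1)) {V : (Proj 𝒜).Opens}
    (hk : V ≤ Proj.basicOpen 𝒜 (MvPolynomial.X k)) (f : Γ(Twist.twist 𝒜 d, V)) :
    untwist n R d k hk f • gen n R d k hk = f := by
  apply (untwist_bijective n R d k hk).1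
  rw [untwist_smul, untwist_gen, mul_one]

lemma L_gen (d : ℤ) (k : Fin (n + 1)) {V : (Proj 𝒜).Opens}
    (hk : V ≤ Proj.basicOpen 𝒜 (MvPolynomial.X k)) (h : cell n R ≤ V) :
    L n R d h (gen n R d k hk) = mon n R (Finsupp.single k d) := by
  rw [L_eq n R d k h hk, untwist_gen, map_one, mul_one]

variable {a b : ℤ}

/-- The Laurent polynomial describing a morphism of twisting sheaves. -/
def symb (φ : Twist.twist 𝒜 a ⟶ Twist.twist 𝒜 b) : Laurent n R :=
  mon n R (-Finsupp.single 0 a) * L n R b (le_refl (cell n R)) (φ.app _ (gen n R a 0 (cell_le_U n R 0)))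

theorem L_app (φ : Twist.twist 𝒜 a ⟶ Twist.twist 𝒜 b) {V : (Proj 𝒜).Opens} (h : cell n R ≤ V)
    (f : Γ(Twist.twist 𝒜 a, V)) : L n R b h (φ.app V f) = L n R a h f * symb n R φ := by
  suffices ∀ f : Γ(Twist.twist 𝒜 a, cell n R),
      L n R b le_rfl (φ.app _ f) = L n R a le_rfl f * symb n R φ by
    have h' := this ((Twist.twist 𝒜 a).presheaf.map (homOfLE h).op f)
    rw [app_res, L_res, L_res] at h'
    exact h'
  intro f
  conv_lhs => rw [← eq_smul_gen n R a 0 (cell_le_U n R 0) f]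
  rw [Scheme.Modules.Hom.app_smul, L_smul, L_eq n R a 0 le_rfl (cell_le_U n R 0) f, symb,
    mul_mul_mul_comm, ← mon_add, add_neg_cancel, mon_zero, one_mul]

theorem goodD_symb (φ : Twist.twist 𝒜 a ⟶ Twist.twist 𝒜 b) (k : Fin (n + 1)) :
    GoodD n R (b - a) {k} (symb n R φ) := by
  classical
  let i : Fin 1 → ULift.{u} (Fin (n + 1)) := fun _ => ULift.up k
  have hk : inter (U n R) i ≤ Proj.basicOpen 𝒜 (MvPolynomial.X k) := fun x hx =>
    ((mem_inter_iff _).1 hx) 0
  have h := goodD_L n R b i (φ.app _ (gen n R a k hk))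
  have himg : img n i = {k} := by ext a; simp [i, eq_comm]
  rw [himg] at h
  have hL := L_app n R φ (univ_le_inter n R i) (gen n R a k hk)
  rw [L_gen] at hL
  have e : symb n R φ = mon n R (Finsupp.single k (-a)) *
      L n R b (univ_le_inter n R i) (φ.app _ (gen n R a k hk)) := by
    rw [hL, ← mul_assoc, ← mon_add, ← Finsupp.single_add, neg_add_cancel, Finsupp.single_zero,
      mon_zero, one_mul]
  rw [e, show b - a = -a + b by abel]
  exact goodD_mon_mul n R b (-a) (Finset.mem_singleton_self k) h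

theorem symb_nonneg (hn : 1 ≤ n) (φ : Twist.twist 𝒜 a ⟶ Twist.twist 𝒜 b) {e : Fin (n + 1) →₀ ℤ}
    (he : e ∈ (symb n R φ).coeff.support) : (∑ i, e i) = b - a ∧ ∀ i, 0 ≤ e i := by
  haveI : Nontrivial (Fin (n + 1)) := Fin.nontrivial_iff_two_le.2 (by omega)
  refine ⟨(goodD_symb n R φ 0 e he).1, fun i => ?_⟩
  obtain ⟨k, hk⟩ := exists_ne i
  exact (goodD_symb n R φ k e he).2 i (by simpa using hk.symm)

theorem symb_eq_zero (hn : 1 ≤ n) (hab : b < a) (φ : Twist.twist 𝒜 a ⟶ Twist.twist 𝒜 b) :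
    symb n R φ = 0 := by
  apply AddMonoidAlgebra.coeff_injective
  ext e
  by_contra he
  obtain ⟨h1, h2⟩ := symb_nonneg n R hn φ (e := e) (Finsupp.mem_support_iff.2 (by simpa using he))
  have := Finset.sum_nonneg fun i (_ : i ∈ Finset.univ) => h2 i
  omega

theorem exists_poly_symb (hn : 1 ≤ n) {m : ℕ} (hm : (m : ℤ) + a = b)
    (φ : Twist.twist 𝒜 a ⟶ Twist.twist 𝒜 b) : ∃ p : 𝒜 m, toLaurent n R p.1 = symb n R φ := by
  classical
  set x := symb n R φ with hx
  let dd : (Fin (n + 1) →₀ ℤ) → (Fin (n + 1) →₀ ℕ) := fun e =>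
    Finsupp.equivFunOnFinite.symm fun i => (e i).toNat
  have hdd : ∀ e ∈ x.coeff.support, expInt n (dd e) = e := fun e he => by
    ext i
    rw [expInt_apply]
    simpa [dd] using Int.toNat_of_nonneg ((symb_nonneg n R hn φ he).2 i)
  refine ⟨⟨∑ e ∈ x.coeff.support, MvPolynomial.monomial (dd e) (x.coeff e),
    Submodule.sum_mem _ fun e he => MvPolynomial.isHomogeneous_monomial _ ?_⟩, ?_⟩
  · rw [Finsupp.degree_eq_sum]
    have h1 : ∀ i, ((dd e i : ℕ) : ℤ) = e i := fun i => by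
      rw [← expInt_apply n (dd e) i, hdd e he]
    have h2 : (∑ i, ((dd e i : ℕ) : ℤ)) = (m : ℤ) := by
      simp only [h1]
      rw [(symb_nonneg n R hn φ he).1]
      omega
    exact_mod_cast h2
  · rw [map_sum]
    rw [Finset.sum_congr rfl fun e he => by rw [toLaurent_monomial, hdd e he]]
    exact AddMonoidAlgebra.sum_coeff_single x

/-- A morphism is determined by its Laurent polynomial. -/
theorem hom_ext_symb {φ ψ : Twist.twist 𝒜 a ⟶ Twist.twist 𝒜 b} (h : symb n R φ = symb n R ψ) : φ = ψ := by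
  refine Scheme.Modules.hom_ext _ _ fun V => AddCommGrpCat.hom_ext (AddMonoidHom.ext fun f => sect_ext fun x => ?_)
  obtain ⟨k, hxk⟩ := Opens.mem_iSup.1 (top_le_iSup_U n R (Set.mem_univ x.1))
  let i : Fin 1 → ULift.{u} (Fin (n + 1)) := fun _ => k
  let W : (Proj 𝒜).Opens := V ⊓ inter (U n R) i
  have hxW : x.1 ∈ W := ⟨x.2, (mem_inter_iff _).2 fun _ => hxk⟩
  have hk : inter (U n R) i ≤ Proj.basicOpen 𝒜 (MvPolynomial.X k.down) := fun y hy =>
    ((mem_inter_iff _).1 hy) 0
  have hg : φ.app _ (gen n R a k.down hk) = ψ.app _ (gen n R a k.down hk) := by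
    refine L_injective n R b i ?_
    rw [L_app, L_app, h]
  have hgW : gen n R a k.down ((inf_le_right : W ≤ _).trans hk) =
      (Twist.twist 𝒜 a).presheaf.map (homOfLE (inf_le_right : W ≤ inter (U n R) i)).op
        (gen n R a k.down hk) := by
    apply (untwist_bijective n R a k.down ((inf_le_right : W ≤ _).trans hk)).1
    rw [untwist_res n R a k.down hk inf_le_right, untwist_gen, untwist_gen, map_one]
  have hW : φ.app W ((Twist.twist 𝒜 a).presheaf.map (homOfLE (inf_le_left : W ≤ V)).op f) =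
      ψ.app W ((Twist.twist 𝒜 a).presheaf.map (homOfLE (inf_le_left : W ≤ V)).op f) := by
    rw [← eq_smul_gen n R a k.down ((inf_le_right : W ≤ _).trans hk)
      ((Twist.twist 𝒜 a).presheaf.map (homOfLE (inf_le_left : W ≤ V)).op f),
      Scheme.Modules.Hom.app_smul, Scheme.Modules.Hom.app_smul, hgW, app_res, app_res, hg]
  rw [app_res, app_res] at hW
  have := congrArg (fun s => valAt s ⟨x.1, hxW⟩) hW
  simpa only [valAt_res] using this

lemma mulFrac_smul {i j : ℕ} (p : 𝒜 i) (s : 𝒜 j) (d d' : ℤ) (h : (i : ℤ) + d = j + d')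
    {V : (Proj 𝒜).Opens} (hV : V ≤ Proj.basicOpen 𝒜 s.1) (c : Γ(Proj 𝒜, V))
    (f : Γ(Twist.twist 𝒜 d, V)) :
    mulFrac 𝒜 p s d d' h hV (c • f) = c • mulFrac 𝒜 p s d d' h hV f :=
  sect_ext fun x => by rw [valAt_mulFrac, valAt_smul, valAt_smul, valAt_mulFrac, mul_left_comm]

/-- The constant form one. -/
def oneForm : 𝒜 0 := ⟨1, SetLike.GradedOne.one_mem⟩

lemma le_basicOpen_oneForm (V : (Proj 𝒜).Opens) : V ≤ Proj.basicOpen 𝒜 (oneForm n R).1 :=
  fun x _ h => x.isPrime.ne_top ((Ideal.eq_top_iff_one _).2 h)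

variable (a b) in
/-- Multiplication by a form as a morphism of twisting sheaves. -/
def mulForm {m : ℕ} (p : 𝒜 m) (hm : (m : ℤ) + a = b) : Twist.twist 𝒜 a ⟶ Twist.twist 𝒜 b :=
  SheafOfModules.Hom.mk <| PresheafOfModules.homMk
    { app := fun V => AddCommGrpCat.ofHom
        (mulFrac 𝒜 p (oneForm n R) a b (by omega) (le_basicOpen_oneForm n R V.unop))
      naturality := fun U V i => rfl }
    (fun V c f => mulFrac_smul n R p (oneForm n R) a b (by omega) (le_basicOpen_oneForm n R V.unop) c f)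

lemma valAt_mulForm {m : ℕ} (p : 𝒜 m) (hm : (m : ℤ) + a = b) {V : (Proj 𝒜).Opens}
    (f : Γ(Twist.twist 𝒜 a, V)) (x : V) :
    valAt ((mulForm n R a b p hm).app V f) x =
      Localization.mk p.1 ⟨(oneForm n R).1, le_basicOpen_oneForm n R V x.2⟩ * valAt f x :=
  rfl

theorem symb_mulForm {m : ℕ} (p : 𝒜 m) (hm : (m : ℤ) + a = b) :
    symb n R (mulForm n R a b p hm) = toLaurent n R p.1 := by
  classical
  let pb := (-b).toNat
  let qb := b.toNat
  let pa := (-a).toNat
  let qa := a.toNat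
  let N := qb + pa
  let A : 𝒜 N := ⟨p.1 * ((xPow n R 0 pb).1 * (xPow n R 0 qa).1), by
    rw [show N = m + (pb + qa) by omega]
    exact SetLike.mul_mem_graded p.2 (SetLike.mul_mem_graded (xPow n R 0 pb).2 (xPow n R 0 qa).2)⟩
  let s : 𝒜 N := ⟨(xPow n R 0 qb).1 * (xPow n R 0 pa).1,
    SetLike.mul_mem_graded (xPow n R 0 qb).2 (xPow n R 0 pa).2⟩
  let s' : 𝒜 (N * n) := ⟨prodX n R (Finset.univ.erase 0) ^ N, by
    have := SetLike.pow_mem_graded N (prodX_mem n R (Finset.univ.erase (0 : Fin (n + 1))))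
    simpa using this⟩
  have hs : s.1 * s'.1 = prodX n R Finset.univ ^ N := by
    show MvPolynomial.X 0 ^ qb * MvPolynomial.X 0 ^ pa * _ = _
    rw [← pow_add, ← show MvPolynomial.X 0 * prodX n R (Finset.univ.erase 0) = prodX n R Finset.univ from
      Finset.mul_prod_erase _ _ (Finset.mem_univ 0), mul_pow]
  have hV : cell n R ≤ Proj.basicOpen 𝒜 s.1 := fun x hx hq =>
    (x.isPrime.mem_or_mem hq).elim (le_basicOpen_xPow n R (cell_le_U n R 0) _ hx)
      (le_basicOpen_xPow n R (cell_le_U n R 0) _ hx)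
  have h := secHom_fracSec n R A s s' hs (by ring) hV
  have e : untwist n R b 0 (cell_le_U n R 0)
      ((mulForm n R a b p hm).app _ (gen n R a 0 (cell_le_U n R 0))) = fracSec 𝒜 A s hV := by
    rw [← mul_one (fracSec 𝒜 A s hV), ← untwist_gen n R a 0 (cell_le_U n R 0)]
    apply (unitEquiv (cell n R)).injective
    rw [unitEquiv_untwist, unitEquiv_mul, unitEquiv_untwist]
    refine sect_ext fun x => ?_
    rw [valAt_fracSec_smul, valAt_mulFrac, valAt_mulFrac, valAt_mulForm, ← mul_assoc, ← mul_assoc,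
      Localization.mk_mul, Localization.mk_mul]
    congr 1
    refine Localization.mk_eq_mk_iff.2 (Localization.r_iff_exists.2 ⟨1, ?_⟩)
    show 1 * ((s.1 * (xPow n R 0 qa).1) * ((xPow n R 0 pb).1 * p.1)) =
      1 * (((xPow n R 0 qb).1 * 1) * (A.1 * (xPow n R 0 pa).1))
    simp only [A, s]
    ring
  have hA : toLaurent n R A.1 = toLaurent n R p.1 *
      mon n R (Finsupp.single 0 (pb : ℤ) + Finsupp.single 0 (qa : ℤ)) := by
    simp only [A, map_mul, toLaurent_xPow, mon_add]
  have hS : toLaurent n R s.1 = mon n R (Finsupp.single 0 (qb : ℤ) + Finsupp.single 0 (pa : ℤ)) := by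
    simp only [s, map_mul, toLaurent_xPow, mon_add]
  rw [hA, hS] at h
  rw [symb, L_eq n R b 0 le_rfl (cell_le_U n R 0), e]
  refine (isUnit_mon n R (Finsupp.single 0 (qb : ℤ) + Finsupp.single 0 (pa : ℤ))).mul_right_cancel ?_
  rw [mul_assoc, mul_assoc, h, ← mul_assoc, ← mon_add, mul_left_comm, ← mon_add]
  congr 2
  rw [← Finsupp.single_neg, ← Finsupp.single_add, ← Finsupp.single_add, ← Finsupp.single_add,
    ← Finsupp.single_add]
  congr 1
  omega

end Groth.Agent.ProjPairLib
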